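import Groth.Agent.Lib.ModLan3.Basic
import Groth.Prelude.Def_SixF1
import Mathlib.CategoryTheory.Preadditive.Injective.Preserves

/-! Pullback of sheaves of modules on small etale sites is exact. -/

universe u

open CategoryTheory CategoryTheory.Functor CategoryTheory.Limits Opposite AlgebraicGeometry

set_option linter.style.haveILetI false
set_option backward.isDefEq.respectTransparency false
set_option backward.isDefEq.respectTransparency.types false

namespace Groth.Agent.EtMod3

variable (Λ : Type (u + 1)) [CommRing Λ] {X Y : Scheme.{u}} (f : X ⟶ Y)

instance preservesFiniteLimits_pull : PreservesFiniteLimits (EtModW.pull Λ f) :=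
  ModLan3.preservesFiniteLimits_sheafPullback.{u + 1} Λ (EtCoh.bc f) _ _

instance preservesInjectiveObjects_push : (EtModW.push Λ f).PreservesInjectiveObjects :=
  Functor.preservesInjectiveObjects_of_adjunction_of_preservesMonomorphisms (EtSix.pullPushModAdj Λ f)

end Groth.Agent.EtMod3
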